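import Mathlib

/-! Common zeros of forms over an algebraically closed field. -/

namespace Groth.Agent.C1Lib

open MvPolynomial

universe u v w

lemma eval_zero_of_isHomogeneous {K : Type u} [CommSemiring K] {σ : Type v} {f : MvPolynomial σ K} {d : ℕ}
    (h : f.IsHomogeneous d) (hd : 0 < d) : eval 0 f = 0 := by
  rw [eval_zero, constantCoeff_eq]
  exact h.coeff_eq_zero (by simpa using hd.ne)

theorem card_le_height {K : Type u} [Field K] {n : ℕ} (p : Ideal (MvPolynomial (Fin n) K)) [p.IsPrime]
    (hX : ∀ i, (X i : MvPolynomial (Fin n) K) ∈ p) : (n : ℕ∞) ≤ p.height := by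
  classical
  let φ : ℕ → (MvPolynomial (Fin n) K →ₐ[K] MvPolynomial (Fin n) K) :=
    fun j => aeval fun i => if (i : ℕ) < j then 0 else X i
  let P : ℕ → Ideal (MvPolynomial (Fin n) K) := fun j => RingHom.ker (φ j).toRingHom
  have hP : ∀ j, (P j).IsPrime := fun j => RingHom.ker_isPrime _
  have hspan : ∀ j f, φ j f = 0 → f ∈ Ideal.span (Set.range (X : Fin n → MvPolynomial (Fin n) K)) := by
    intro j f hf
    have key : ∀ g : MvPolynomial (Fin n) K,
        g - φ j g ∈ Ideal.span (Set.range (X : Fin n → MvPolynomial (Fin n) K)) := by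
      intro g
      induction g using MvPolynomial.induction_on with
      | C c => simp [φ]
      | add a b ha hb => rw [map_add, add_sub_add_comm]; exact add_mem ha hb
      | mul_X a i ha =>
        rw [map_mul, show a * X i - φ j a * φ j (X i) = (a - φ j a) * X i + φ j a * (X i - φ j (X i)) by ring]
        refine add_mem (Ideal.mul_mem_right _ _ ha) (Ideal.mul_mem_left _ _ ?_)
        simp only [φ, aeval_X]
        split
        · rw [sub_zero]; exact Ideal.subset_span ⟨i, rfl⟩
        · rw [sub_self]; exact zero_mem _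
    simpa [hf] using key f
  have hle : ∀ j, j ≤ n → P j ≤ p ∧ (j : ℕ∞) ≤ (P j).height := by
    intro j hj
    refine ⟨fun f hf => (Ideal.span_le.mpr ?_) (hspan j f hf), ?_⟩
    · rintro _ ⟨i, rfl⟩; exact hX i
    induction j with
    | zero => simp
    | succ j ih =>
      have hlt : P j < P (j + 1) := by
        refine SetLike.lt_iff_le_and_exists.mpr ⟨fun f hf => ?_, X ⟨j, hj⟩, ?_, ?_⟩
        · have hcomp : φ (j + 1) = (φ (j + 1)).comp (φ j) := by
            refine algHom_ext fun i => ?_
            simp only [φ, AlgHom.comp_apply, aeval_X]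
            by_cases h : (i : ℕ) < j
            · rw [if_pos h, if_pos (by omega), map_zero]
            · rw [if_neg h, aeval_X]
          change φ (j + 1) f = 0
          rw [hcomp, AlgHom.comp_apply, show φ j f = 0 from hf, map_zero]
        · change φ (j + 1) (X ⟨j, hj⟩) = 0
          simp [φ]
        · change ¬ φ j (X ⟨j, hj⟩) = 0
          simp [φ]
      haveI := hP j
      haveI := hP (j + 1)
      have := Ideal.height_add_one_le_of_lt_of_isPrime hlt
      push_cast
      exact le_trans (add_le_add (ih (by omega)) le_rfl) this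
  exact (hle n le_rfl).2.trans (Ideal.height_mono (hle n le_rfl).1)

theorem exists_zero_fin {K : Type u} [Field K] [IsAlgClosed K] {r n : ℕ}
    (f : Fin r → MvPolynomial (Fin n) K) (d : Fin r → ℕ) (hf : ∀ ρ, (f ρ).IsHomogeneous (d ρ))
    (hd : ∀ ρ, 0 < d ρ) (hrn : r < n) : ∃ a : Fin n → K, a ≠ 0 ∧ ∀ ρ, eval a (f ρ) = 0 := by
  classical
  by_contra hcon
  push Not at hcon
  let I := Ideal.span (Set.range f)
  let p : Ideal (MvPolynomial (Fin n) K) := vanishingIdeal K {(0 : Fin n → K)}
  have hz : zeroLocus K I = {0} := by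
    rw [zeroLocus_span]
    ext a
    simp only [Set.mem_setOf_eq, Set.forall_mem_range, Set.mem_singleton_iff, aeval_eq_eval]
    constructor
    · intro h
      by_contra ha
      obtain ⟨ρ, hρ⟩ := hcon a ha
      exact hρ (h ρ)
    · rintro rfl ρ
      exact eval_zero_of_isHomogeneous (hf ρ) (hd ρ)
  have hrad : I.radical = p := by
    rw [← vanishingIdeal_zeroLocus_eq_radical (K := K), hz]
  have hp : p ∈ I.minimalPrimes := by
    haveI : p.IsPrime := inferInstanceAs (vanishingIdeal K {(0 : Fin n → K)}).IsPrime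
    rw [← Ideal.radical_minimalPrimes, hrad, Ideal.minimalPrimes_eq_subsingleton_self]
    exact Set.mem_singleton p
  haveI : p.IsPrime := hp.1.1
  have h1 := Ideal.height_le_card_of_mem_minimalPrimes_span (Set.finite_range f) hp
  have h2 := card_le_height p fun i => by
    simp only [p, mem_vanishingIdeal_singleton_iff, aeval_X, Pi.zero_apply]
  have h3 : (Set.range f).ncard ≤ r := by
    rw [← Set.image_univ]
    exact (Set.ncard_image_le Set.finite_univ).trans (by simp [Set.ncard_univ])
  have := h2.trans h1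
  norm_cast at this
  omega

/-- Fewer forms of positive degree than variables have a common nontrivial zero. -/
theorem exists_zero_of_isAlgClosed {K : Type u} [Field K] [IsAlgClosed K] {σ : Type v} {ι : Type w}
    [Fintype σ] [Fintype ι] (f : ι → MvPolynomial σ K) (d : ι → ℕ) (hf : ∀ ρ, (f ρ).IsHomogeneous (d ρ))
    (hd : ∀ ρ, 0 < d ρ) (h : Fintype.card ι < Fintype.card σ) :
    ∃ a : σ → K, a ≠ 0 ∧ ∀ ρ, eval a (f ρ) = 0 := by
  let es := Fintype.equivFin σ
  let ei := Fintype.equivFin ι
  obtain ⟨a, ha, h0⟩ := exists_zero_fin (fun ρ => rename es (f (ei.symm ρ))) (fun ρ => d (ei.symm ρ))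
    (fun ρ => (hf _).rename_isHomogeneous) (fun ρ => hd _) h
  refine ⟨a ∘ es, fun hae => ha (funext fun i => ?_), fun ρ => ?_⟩
  · simpa using congrFun hae (es.symm i)
  · simpa [eval_rename] using h0 (ei ρ)

end Groth.Agent.C1Lib
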