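import Mathlib
import Groth.Prelude.Def_Curves

/-! Restriction of scalars for systems of forms. -/

namespace Groth.Agent.C1Lib

open MvPolynomial

universe u v

lemma exists_zero_of_isCi {K : Type u} [Field K] {i : ℕ} (hK : Curves.IsCi K i) {σ : Type*} {ι : Type*}
    [Fintype σ] [Fintype ι] (f : ι → MvPolynomial σ K) (d : ι → ℕ) (hf : ∀ ρ, (f ρ).IsHomogeneous (d ρ))
    (hd : ∀ ρ, 0 < d ρ) (h : (∑ ρ, d ρ ^ i) < Fintype.card σ) :
    ∃ a : σ → K, a ≠ 0 ∧ ∀ ρ, eval a (f ρ) = 0 := by
  let es := Fintype.equivFin σ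
  let ei := Fintype.equivFin ι
  obtain ⟨a, ha, h0⟩ := hK _ _ (fun ρ => rename es (f (ei.symm ρ))) (fun ρ => d (ei.symm ρ))
    (fun ρ => (hf _).rename_isHomogeneous) (fun ρ => hd _)
    (by rwa [ei.symm.sum_comp (fun ρ => d ρ ^ i)])
  refine ⟨a ∘ es, fun hae => ha (funext fun i => ?_), fun ρ => ?_⟩
  · simpa using congrFun hae (es.symm i)
  · simpa [eval_rename] using h0 (ei ρ)

lemma exists_zero_of_isCr {K : Type u} [Field K] {i : ℕ} (hK : Curves.IsCr K i) {σ : Type*}
    [Fintype σ] (f : MvPolynomial σ K) (d : ℕ) (hf : f.IsHomogeneous d) (hd : 0 < d)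
    (h : d ^ i < Fintype.card σ) : ∃ a : σ → K, a ≠ 0 ∧ eval a f = 0 := by
  let es := Fintype.equivFin σ
  obtain ⟨a, ha, h0⟩ := hK _ d (rename es f) hf.rename_isHomogeneous hd h
  refine ⟨a ∘ es, fun hae => ha (funext fun i => ?_), ?_⟩
  · simpa using congrFun hae (es.symm i)
  · simpa [eval_rename] using h0

variable {K : Type u} [Field K] {L : Type v} [Field L] [Algebra K L] {n : ℕ} {m : Type*} [Fintype m]

/-- A tuple of `L` from coordinates. -/
noncomputable def tupleOf (b : Module.Basis m K L) (y : Fin n × m → K) : Fin n → L :=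
  fun j => ∑ l, algebraMap K L (y (j, l)) * b l

lemma tupleOf_ne_zero (b : Module.Basis m K L) {y : Fin n × m → K} (hy : y ≠ 0) : tupleOf b y ≠ 0 := fun h => by
  refine hy (funext fun p => ?_)
  have h1 : ∑ l, y (p.1, l) • b l = 0 := by
    simpa [tupleOf, Algebra.smul_def] using congrFun h p.1
  exact Fintype.linearIndependent_iff.mp b.linearIndependent _ h1 p.2

/-- The coordinates of a form over `L`. -/
theorem exists_coord_forms (b : Module.Basis m K L) (f : MvPolynomial (Fin n) L) {d : ℕ}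
    (hf : f.IsHomogeneous d) : ∃ g : m → MvPolynomial (Fin n × m) K,
      (∀ p, (g p).IsHomogeneous d) ∧
      ∀ y, eval (tupleOf b y) f = ∑ p, algebraMap K L (eval y (g p)) * b p := by
  classical
  let Φ : MvPolynomial (Fin n × m) L := aeval (fun j => ∑ l, C (b l) * X (j, l)) f
  have hΦ : Φ.IsHomogeneous d := by
    have h := hf.aeval (fun j => ∑ l, C (b l) * X (j, l) : Fin n → MvPolynomial (Fin n × m) L)
      (fun j => IsHomogeneous.sum _ _ 1 fun l _ => (isHomogeneous_X L (j, l)).C_mul (b l))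
    rw [one_mul] at h
    exact h
  refine ⟨fun p => ∑ α ∈ Φ.support, monomial α (b.repr (coeff α Φ) p), fun p => ?_, fun y => ?_⟩
  · refine IsHomogeneous.sum _ _ _ fun α hα => isHomogeneous_monomial _ ?_
    simpa [Finsupp.weight_apply, Finsupp.degree, Finsupp.sum] using hΦ (mem_support_iff.mp hα)
  have h1 : eval (tupleOf b y) f = eval (fun q => algebraMap K L (y q)) Φ := by
    simp only [Φ, ← aeval_eq_eval, ← AlgHom.comp_apply, comp_aeval]
    refine congrArg (fun z => aeval z f) (funext fun j => ?_)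
    simp [tupleOf, mul_comm]
  rw [h1, eval_eq]
  simp only [map_sum, eval_monomial, Finset.sum_mul]
  rw [Finset.sum_comm]
  refine Finset.sum_congr rfl fun α _ => ?_
  conv_lhs => rw [← b.sum_repr (coeff α Φ)]
  rw [Finset.sum_mul]
  refine Finset.sum_congr rfl fun p _ => ?_
  simp only [Algebra.smul_def, map_mul, map_prod, map_pow, Finsupp.prod]
  ring

theorem isCi_of_finite [FiniteDimensional K L] {i : ℕ} (hK : Curves.IsCi K i) : Curves.IsCi L i := by
  classical
  intro r n f d hf hd h
  let b := Module.finBasis K L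
  choose g hg hev using fun ρ => exists_coord_forms b (f ρ) (hf ρ)
  obtain ⟨y, hy, h0⟩ := exists_zero_of_isCi hK (fun q : Fin r × Fin (Module.finrank K L) => g q.1 q.2)
    (fun q => d q.1) (fun q => hg _ _) (fun q => hd _) (by
      rw [Fintype.sum_prod_type]
      simp only [Finset.sum_const, Finset.card_univ, Fintype.card_fin, Fintype.card_prod, smul_eq_mul,
        ← Finset.mul_sum]
      rw [mul_comm n]
      exact Nat.mul_lt_mul_of_pos_left h Module.finrank_pos)
  exact ⟨tupleOf b y, tupleOf_ne_zero b hy, fun ρ => by simp [hev, h0 (ρ, _)]⟩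

theorem isCr_one_of_finite [FiniteDimensional K L] (hK : Curves.IsCr K 1) : Curves.IsCr L 1 := by
  classical
  intro n d f hf hd h
  let b := Module.finBasis K L
  obtain ⟨g, hg, hev⟩ := exists_coord_forms b f hf
  let N : MvPolynomial (Fin n × Fin (Module.finrank K L)) K :=
    (∑ p, g p • (Algebra.leftMulMatrix b (b p)).map (C : K →+* MvPolynomial (Fin n × Fin (Module.finrank K L)) K)).det
  have hN : N.IsHomogeneous (Module.finrank K L * d) := by
    let Mx : Matrix (Fin (Module.finrank K L)) (Fin (Module.finrank K L)) (MvPolynomial _ K) :=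
      ∑ p, g p • (Algebra.leftMulMatrix b (b p)).map (C : K →+* MvPolynomial (Fin n × Fin (Module.finrank K L)) K)
    have h1 : ∀ a c, (Mx a c).IsHomogeneous d := fun a c => by
      simp only [Mx, Matrix.sum_apply, Matrix.smul_apply, Matrix.map_apply, smul_eq_mul]
      exact IsHomogeneous.sum _ _ _ fun p _ => by simpa using (hg p).mul (isHomogeneous_C _ _)
    simp only [N, Matrix.det_apply]
    refine IsHomogeneous.sum _ _ _ fun s _ => ?_
    rw [Units.smul_def, zsmul_eq_mul, ← map_intCast (C : K →+* MvPolynomial (Fin n × Fin (Module.finrank K L)) K)]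
    refine IsHomogeneous.C_mul ?_ _
    simpa [Mx] using IsHomogeneous.prod Finset.univ (fun i => Mx (s i) i) (fun _ => d) fun i _ => h1 _ _
  obtain ⟨y, hy, h0⟩ := exists_zero_of_isCr hK N (Module.finrank K L * d) hN
    (Nat.mul_pos Module.finrank_pos hd) (by
      rw [pow_one] at h ⊢
      simp only [Fintype.card_prod, Fintype.card_fin]
      rw [mul_comm n]
      exact Nat.mul_lt_mul_of_pos_left h Module.finrank_pos)
  refine ⟨tupleOf b y, tupleOf_ne_zero b hy, ?_⟩
  rw [← Algebra.norm_eq_zero_iff (R := K), Algebra.norm_eq_matrix_det b, ← h0]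
  simp only [N]
  rw [RingHom.map_det]
  congr 1
  ext a c
  simp [hev, Matrix.sum_apply, ← Algebra.smul_def]

theorem isCi_of_isAlgebraic [Algebra.IsAlgebraic K L] {i : ℕ} (hK : Curves.IsCi K i) : Curves.IsCi L i := by
  classical
  intro r n f d hf hd h
  let E := IntermediateField.adjoin K (⋃ ρ, ((f ρ).coeffs : Set L))
  haveI : Finite (↥(⋃ ρ, ((f ρ).coeffs : Set L))) := Set.finite_iUnion fun ρ => (f ρ).coeffs.finite_toSet
  haveI : FiniteDimensional K E :=
    IntermediateField.finiteDimensional_adjoin fun x _ => (Algebra.IsAlgebraic.isAlgebraic x).isIntegral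
  have hr : ∀ ρ, f ρ ∈ (map (algebraMap E L) : MvPolynomial (Fin n) E →+* _).range := fun ρ => by
    rw [RingHom.mem_range, ← Set.mem_range, mem_range_map_iff_coeffs_subset]
    intro c hc
    exact ⟨⟨c, IntermediateField.subset_adjoin K _ (Set.mem_iUnion.mpr ⟨ρ, hc⟩)⟩, rfl⟩
  choose f₀ hf₀ using hr
  obtain ⟨a, ha, h0⟩ := isCi_of_finite (L := E) hK r n f₀ d (fun ρ α hα => hf ρ (d := α) (by
    rw [← hf₀ ρ, coeff_map]
    exact fun hz => hα ((map_eq_zero _).mp hz))) hd h
  refine ⟨fun j => algebraMap E L (a j), fun hz => ha (funext fun j => (map_eq_zero _).mp (congrFun hz j)),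
    fun ρ => ?_⟩
  rw [← hf₀ ρ, eval_map]
  have := eval₂_comp (algebraMap E L) a (f₀ ρ)
  rw [h0 ρ, map_zero] at this
  exact this.symm

end Groth.Agent.C1Lib
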