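import Mathlib
import Groth.Agent.C1Lib.Scalars

/-! Tsen–Lang: rational function fields. -/

namespace Groth.Agent.C1Lib

open MvPolynomial

universe u v

variable {K : Type u} [Field K]

/-- All coefficients are forms of degree `e`. -/
def PolyHom {σ : Type*} (e : ℕ) (g : Polynomial (MvPolynomial σ K)) : Prop :=
  ∀ m, (g.coeff m).IsHomogeneous e

lemma PolyHom.mul {σ : Type*} {e e' : ℕ} {g g' : Polynomial (MvPolynomial σ K)} (h : PolyHom e g)
    (h' : PolyHom e' g') : PolyHom (e + e') (g * g') := fun m => by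
  rw [Polynomial.coeff_mul]
  exact IsHomogeneous.sum _ _ _ fun p _ => (h p.1).mul (h' p.2)

lemma polyHom_one {σ : Type*} : PolyHom 0 (1 : Polynomial (MvPolynomial σ K)) := fun m => by
  rw [Polynomial.coeff_one]
  split
  · exact isHomogeneous_one _ _
  · exact isHomogeneous_zero _ _ _

lemma PolyHom.pow {σ : Type*} {e : ℕ} {g : Polynomial (MvPolynomial σ K)} (h : PolyHom e g) :
    ∀ l : ℕ, PolyHom (e * l) (g ^ l)
  | 0 => by rw [pow_zero, mul_zero]; exact polyHom_one
  | l + 1 => by rw [pow_succ, Nat.mul_succ]; exact (h.pow l).mul h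

lemma PolyHom.prod {σ : Type*} {ι : Type*} (s : Finset ι) {e : ι → ℕ}
    {g : ι → Polynomial (MvPolynomial σ K)} (h : ∀ i ∈ s, PolyHom (e i) (g i)) :
    PolyHom (∑ i ∈ s, e i) (∏ i ∈ s, g i) := by
  classical
  induction s using Finset.induction_on with
  | empty => simpa using polyHom_one
  | insert i s hi ih =>
    rw [Finset.sum_insert hi, Finset.prod_insert hi]
    exact (h i (Finset.mem_insert_self i s)).mul (ih fun j hj => h j (Finset.mem_insert_of_mem hj))

/-- The polynomial with given low coefficients. -/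
noncomputable def polyOf {A : Type*} [CommSemiring A] {s : ℕ} (a : Fin (s + 1) → A) : Polynomial A :=
  ∑ l, Polynomial.C (a l) * Polynomial.X ^ (l : ℕ)

theorem isCi_succ_polynomial {i : ℕ} (hK : Curves.IsCi K i) {r n : ℕ}
    (F : Fin r → MvPolynomial (Fin n) (Polynomial K)) (d : Fin r → ℕ) (hF : ∀ ρ, (F ρ).IsHomogeneous (d ρ))
    (hd : ∀ ρ, 0 < d ρ) (h : (∑ ρ, d ρ ^ (i + 1)) < n) :
    ∃ a : Fin n → Polynomial K, a ≠ 0 ∧ ∀ ρ, eval a (F ρ) = 0 := by
  classical
  let c : ℕ := Finset.univ.sup fun ρ => (F ρ).support.sup fun α => (coeff α (F ρ)).natDegree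
  let s : ℕ := (c + 1) * ∑ ρ, d ρ ^ i
  let σ := Fin n × Fin (s + 1)
  let Ã : Fin n → Polynomial (MvPolynomial σ K) := fun j => polyOf fun l => X (j, l)
  let G : Fin r → Polynomial (MvPolynomial σ K) := fun ρ =>
    eval₂ (Polynomial.mapRingHom (C : K →+* MvPolynomial σ K)) Ã (F ρ)
  have hG : ∀ ρ, PolyHom (d ρ) (G ρ) := by
    intro ρ m
    simp only [G, eval₂_eq, Polynomial.finsetSum_coeff]
    refine IsHomogeneous.sum _ _ _ fun α hα => ?_
    have hdeg : ∑ j ∈ α.support, 1 * α j = d ρ := by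
      simpa [Finsupp.weight_apply, Finsupp.sum] using hF ρ (MvPolynomial.mem_support_iff.mp hα)
    have h1 : PolyHom 0 (Polynomial.mapRingHom (C : K →+* MvPolynomial σ K) (coeff α (F ρ))) := fun m => by
      rw [Polynomial.coe_mapRingHom, Polynomial.coeff_map]; exact isHomogeneous_C _ _
    have h2 : PolyHom (d ρ) (∏ j ∈ α.support, Ã j ^ α j) := by
      rw [← hdeg]
      refine PolyHom.prod _ fun j _ => PolyHom.pow (fun m => ?_) _
      simp only [Ã, polyOf, Polynomial.finsetSum_coeff, Polynomial.coeff_C_mul_X_pow]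
      refine IsHomogeneous.sum _ _ _ fun l _ => ?_
      split
      · exact isHomogeneous_X _ _
      · exact isHomogeneous_zero _ _ _
    simpa using (h1.mul h2) m
  obtain ⟨y, hy, h0⟩ := exists_zero_of_isCi hK
    (fun q : (ρ : Fin r) × Fin (c + d ρ * s + 1) => (G q.1).coeff (q.2 : ℕ)) (fun q => d q.1)
    (fun q => hG q.1 _) (fun q => hd _) (by
      rw [Fintype.sum_sigma]
      simp only [Finset.sum_const, Finset.card_univ, Fintype.card_fin, smul_eq_mul, σ, Fintype.card_prod]
      have h1 : ∑ ρ, (c + d ρ * s + 1) * d ρ ^ i = (c + 1) * ∑ ρ, d ρ ^ i + s * ∑ ρ, d ρ ^ (i + 1) := by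
        rw [Finset.mul_sum, Finset.mul_sum, ← Finset.sum_add_distrib]
        exact Finset.sum_congr rfl fun ρ _ => by ring
      have h2 : s * (∑ ρ, d ρ ^ (i + 1)) + s ≤ s * n := by
        rw [← Nat.mul_succ]; exact Nat.mul_le_mul_left s h
      rw [h1, show (c + 1) * ∑ ρ, d ρ ^ i = s from rfl, show n * (s + 1) = s * n + n by ring]
      omega)
  let A : Fin n → Polynomial K := fun j => polyOf fun l => y (j, l)
  refine ⟨A, fun hA => hy (funext fun p => ?_), fun ρ => ?_⟩
  · have h1 := congrArg (fun q : Polynomial K => q.coeff (p.2 : ℕ)) (congrFun hA p.1)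
    simpa [A, polyOf, Polynomial.coeff_C_mul_X_pow, Fin.val_inj] using h1
  have hGA : (G ρ).map (eval y) = eval A (F ρ) := by
    rw [← Polynomial.coe_mapRingHom]
    have h1 : Polynomial.mapRingHom (eval y) (G ρ) =
        eval₂ ((Polynomial.mapRingHom (eval y)).comp (Polynomial.mapRingHom (C : K →+* MvPolynomial σ K)))
          (fun j => Polynomial.mapRingHom (eval y) (Ã j)) (F ρ) := eval₂_comp_left _ _ _ _
    rw [h1, show ((Polynomial.mapRingHom (eval y)).comp (Polynomial.mapRingHom (C : K →+* MvPolynomial σ K))) =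
      RingHom.id _ from RingHom.ext fun p => Polynomial.ext fun m => by simp]
    refine congrArg (fun z => eval₂ (RingHom.id _) z (F ρ)) (funext fun j => ?_)
    simp [A, Ã, polyOf, Polynomial.map_sum]
  refine Polynomial.ext fun m => ?_
  rw [Polynomial.coeff_zero]
  by_cases hm : m < c + d ρ * s + 1
  · rw [← hGA, Polynomial.coeff_map]
    exact h0 ⟨ρ, m, hm⟩
  · refine Polynomial.coeff_eq_zero_of_natDegree_lt (lt_of_le_of_lt ?_ (Nat.lt_of_succ_le (not_lt.mp hm)))
    rw [eval_eq]
    refine Polynomial.natDegree_sum_le_of_forall_le _ _ fun α hα => ?_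
    refine (Polynomial.natDegree_mul_le).trans (Nat.add_le_add ?_ ?_)
    · exact le_trans (Finset.le_sup (f := fun α => (coeff α (F ρ)).natDegree) hα)
        (Finset.le_sup (f := fun ρ => (F ρ).support.sup fun α => (coeff α (F ρ)).natDegree) (Finset.mem_univ ρ))
    · have hdeg : ∑ j ∈ α.support, α j = d ρ := by
        simpa [Finsupp.weight_apply, Finsupp.sum] using hF ρ (MvPolynomial.mem_support_iff.mp hα)
      refine (Polynomial.natDegree_prod_le _ _).trans ?_
      rw [← hdeg, Finset.sum_mul]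
      refine Finset.sum_le_sum fun j _ => (Polynomial.natDegree_pow_le).trans (Nat.mul_le_mul_left _ ?_)
      exact Polynomial.natDegree_sum_le_of_forall_le _ _ fun l _ =>
        (Polynomial.natDegree_C_mul_X_pow_le _ _).trans (Nat.le_of_lt_succ l.isLt)

theorem isCi_succ_ratFunc {i : ℕ} (hK : Curves.IsCi K i) : Curves.IsCi (RatFunc K) (i + 1) := by
  classical
  intro r n f d hf hd h
  let ι := algebraMap (Polynomial K) (RatFunc K)
  have hinj : Function.Injective ι := FaithfulSMul.algebraMap_injective _ _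
  choose b hb using fun ρ => IsLocalization.exist_integer_multiples (nonZeroDivisors (Polynomial K)) (f ρ).support
    (fun α => coeff α (f ρ))
  choose! c hc using hb
  let F : Fin r → MvPolynomial (Fin n) (Polynomial K) := fun ρ => ∑ α ∈ (f ρ).support, monomial α (c ρ α)
  have hmap : ∀ ρ, MvPolynomial.map ι (F ρ) = C (ι (b ρ)) * f ρ := fun ρ => by
    conv_rhs => rw [(f ρ).as_sum, Finset.mul_sum]
    rw [map_sum]
    refine Finset.sum_congr rfl fun α hα => ?_
    rw [map_monomial, C_mul_monomial]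
    congr 1
    exact (hc ρ α hα).trans (by rw [Algebra.smul_def])
  obtain ⟨a, ha, h0⟩ := isCi_succ_polynomial hK F d (fun ρ => IsHomogeneous.sum _ _ _ fun α hα =>
    isHomogeneous_monomial _ (by
      simpa [Finsupp.weight_apply, Finsupp.degree, Finsupp.sum] using hf ρ (MvPolynomial.mem_support_iff.mp hα))) hd h
  refine ⟨fun j => ι (a j), fun hz => ha (funext fun j => (map_eq_zero_iff ι hinj).mp (congrFun hz j)), fun ρ => ?_⟩
  have h1 : eval (fun j => ι (a j)) (MvPolynomial.map ι (F ρ)) = ι (eval a (F ρ)) := by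
    rw [eval_map, eval₂_comp]; rfl
  rw [hmap, map_mul, eval_C, h0 ρ, map_zero] at h1
  exact (mul_eq_zero.mp h1).resolve_left (by
    rw [map_eq_zero_iff ι hinj]; exact nonZeroDivisors.coe_ne_zero (b ρ))

end Groth.Agent.C1Lib
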