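import Mathlib
import Groth.Agent.C1Lib.RatFunc

/-! Tsen–Lang in finite transcendence degree. -/

namespace Groth.Agent.C1Lib

open MvPolynomial IntermediateField.algebraAdjoinAdjoin

universe u v

variable {k : Type u} [Field k] {K : Type v} [Field K] [Algebra k K]

lemma isCi_of_ringEquiv {A : Type*} {B : Type*} [Field A] [Field B] (e : A ≃+* B) {i : ℕ}
    (h : Curves.IsCi A i) : Curves.IsCi B i := by
  letI := (e : A →+* B).toAlgebra
  haveI : Algebra.IsAlgebraic A B := ⟨fun b => by
    obtain ⟨a, rfl⟩ := e.surjective b
    exact isAlgebraic_algebraMap a⟩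
  exact isCi_of_isAlgebraic h

theorem isCi_adjoin {m : ℕ} (hk : Curves.IsCi k m) : ∀ (t : ℕ) (x : Fin t → K), AlgebraicIndependent k x →
    Curves.IsCi (IntermediateField.adjoin k (Set.range x)) (m + t) := by
  intro t
  induction t with
  | zero =>
    intro x _
    rw [Set.range_eq_empty x, IntermediateField.adjoin_empty]
    exact isCi_of_ringEquiv (IntermediateField.botEquiv k K).symm.toRingEquiv hk
  | succ t ih =>
    intro x hx
    let x' : Fin t → K := x ∘ Fin.castSucc
    have hx' : AlgebraicIndependent k x' := hx.comp _ (Fin.castSucc_injective t)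
    let E := IntermediateField.adjoin k (Set.range x')
    have hE : Curves.IsCi E (m + t) := ih x' hx'
    have htr : Transcendental E (x (Fin.last t)) := by
      have h1 := hx.transcendental_adjoin (s := Set.range Fin.castSucc) (i := Fin.last t)
        (fun ⟨j, hj⟩ => (Fin.castSucc_lt_last j).ne hj)
      rw [← Set.range_comp] at h1
      intro halg
      exact h1 ((IsFractionRing.isAlgebraic_iff (Algebra.adjoin k (Set.range x')) E K).mpr halg)
    have h2 := isCi_of_ringEquiv (RatFunc.algEquivOfTranscendental _ htr).toRingEquiv (isCi_succ_ratFunc hE)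
    have hset : (IntermediateField.adjoin E {x (Fin.last t)}).restrictScalars k =
        IntermediateField.adjoin k (Set.range x) := by
      rw [IntermediateField.adjoin_adjoin_left]
      congr 1
      refine Set.Subset.antisymm ?_ ?_
      · rintro _ (⟨j, rfl⟩ | rfl) <;> exact ⟨_, rfl⟩
      · rintro _ ⟨j, rfl⟩
        exact Fin.lastCases (Or.inr rfl) (fun j => Or.inl ⟨j, rfl⟩) j
    rw [← hset]
    exact isCi_of_ringEquiv (RingEquiv.refl _) h2

theorem isCi_add_of_isTranscendenceBasis {m t : ℕ} (x : Fin t → K) (hx : IsTranscendenceBasis k x)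
    (hk : Curves.IsCi k m) : Curves.IsCi K (m + t) :=
  haveI := hx.isAlgebraic_field
  isCi_of_isAlgebraic (isCi_adjoin hk t x hx.1)

end Groth.Agent.C1Lib
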