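import Mathlib
import Groth.Prelude.Def_Curves
import Groth.Agent.CSADescent.Basic
import Groth.Agent.CSADescent.SepClosed
import Groth.Agent.CSADescent.Tensor

/-! Division algebras over a `C₁`-field, by the reduced norm form. -/

open scoped TensorProduct

namespace Groth.Agent.C1Lib

universe u v

variable {K : Type u} [Field K] {D : Type v} [DivisionRing D] [Algebra K D] [Algebra.IsCentral K D]

theorem isCentral_baseChange (L : Type u) [Field L] [Algebra K L] : Algebra.IsCentral L (L ⊗[K] D) := by
  classical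
  let b := Module.Free.chooseBasis K L
  let E := TensorProduct.equivFinsuppOfBasisLeft (N := D) b
  have hE : ∀ (z : L ⊗[K] D) (d : D) i, E (z * ((1 : L) ⊗ₜ[K] d)) i = E z i * d ∧
      E (((1 : L) ⊗ₜ[K] d) * z) i = d * E z i := by
    intro z d i
    induction z using TensorProduct.induction_on with
    | zero => simp
    | tmul l x => simp [E, smul_mul_assoc, mul_smul_comm]
    | add p q hp hq => simp [add_mul, mul_add, hp.1, hp.2, hq.1, hq.2]
  refine ⟨fun z hz => ?_⟩
  have hc : ∀ i, ∃ r : K, algebraMap K D r = E z i := fun i => by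
    have h : E z i ∈ Subalgebra.center K D := Subalgebra.mem_center_iff.2 fun d => by
      rw [← (hE z d i).1, ← (hE z d i).2, (Subalgebra.mem_center_iff.1 hz ((1 : L) ⊗ₜ[K] d))]
    exact Algebra.mem_bot.1 (Algebra.IsCentral.out h)
  choose r hr using hc
  rw [Algebra.mem_bot]
  refine ⟨(E z).sum fun i _ => r i • b i, ?_⟩
  conv_rhs => rw [← E.symm_apply_apply z, TensorProduct.equivFinsuppOfBasisLeft_symm_apply]
  rw [Algebra.TensorProduct.algebraMap_apply, Algebra.algebraMap_self, RingHom.id_apply, Finsupp.sum, Finsupp.sum, TensorProduct.sum_tmul]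
  refine Finset.sum_congr rfl fun i _ => ?_
  rw [← hr i, Algebra.algebraMap_eq_smul_one, TensorProduct.tmul_smul, TensorProduct.smul_tmul']

theorem finrank_eq_one_of_isCr_one (hK : Curves.IsCr K 1) [FiniteDimensional K D] : Module.finrank K D = 1 := by
  classical
  let L := SeparableClosure K
  haveI : Algebra.IsCentral L (L ⊗[K] D) := isCentral_baseChange L
  haveI : IsSimpleRing (D ⊗[K] L) := Groth.Agent.CSADescent.isSimpleRing_tensor
  haveI : IsSimpleRing (L ⊗[K] D) :=
    IsSimpleRing.of_ringEquiv (Algebra.TensorProduct.comm K D L).toRingEquiv inferInstance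
  obtain ⟨n, ⟨e⟩⟩ := Groth.Agent.CSADescent.exists_algEquiv_matrix (L := L) (L ⊗[K] D)
  have hn2 : Module.finrank K D = n * n := by
    rw [← Module.finrank_baseChange (R := L), e.toLinearEquiv.finrank_eq, Module.finrank_matrix]
    simp
  rcases Nat.lt_or_ge 1 n with hn | hn
  swap
  · rcases n with _ | _ | n
    · exact absurd hn2 (Module.finrank_pos (R := K) (M := D)).ne'
    · simpa using hn2
    · omega
  exfalso
  let bD := Module.finBasisOfFinrankEq K D hn2
  let ψ : D →ₐ[K] Matrix (Fin n) (Fin n) L :=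
    (e.toAlgHom.restrictScalars K).comp Algebra.TensorProduct.includeRight
  let P : MvPolynomial (Fin (n * n)) L :=
    (∑ j, (MvPolynomial.X j : MvPolynomial (Fin (n * n)) L) • (ψ (bD j)).map MvPolynomial.C).det
  have hP : P.IsHomogeneous n := by
    simp only [P, Matrix.det_apply]
    refine MvPolynomial.IsHomogeneous.sum _ _ _ fun s _ => ?_
    rw [Units.smul_def, zsmul_eq_mul, ← map_intCast (MvPolynomial.C : L →+* MvPolynomial (Fin (n * n)) L)]
    refine MvPolynomial.IsHomogeneous.C_mul ?_ _
    let Mx : Matrix (Fin n) (Fin n) (MvPolynomial (Fin (n * n)) L) :=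
      ∑ j, (MvPolynomial.X j : MvPolynomial (Fin (n * n)) L) • (ψ (bD j)).map MvPolynomial.C
    have h1 : ∀ a b, (Mx a b).IsHomogeneous 1 := fun a b => by
      simp only [Mx, Matrix.sum_apply, Matrix.smul_apply, Matrix.map_apply, smul_eq_mul]
      exact MvPolynomial.IsHomogeneous.sum _ _ _ fun j _ => by
        simpa using (MvPolynomial.isHomogeneous_X L j).mul (MvPolynomial.isHomogeneous_C _ _)
    simpa [Mx] using MvPolynomial.IsHomogeneous.prod Finset.univ (fun i => Mx (s i) i) (fun _ => 1)
      fun i _ => h1 _ _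
  have hfix : ∀ σ : L ≃ₐ[K] L, MvPolynomial.map (σ : L →+* L) P = P := by
    intro σ
    let ψ' : D →ₐ[K] Matrix (Fin n) (Fin n) L := (σ.mapMatrix : _ ≃ₐ[K] _).toAlgHom.comp ψ
    let φ' : L ⊗[K] D →ₐ[L] Matrix (Fin n) (Fin n) L :=
      Algebra.TensorProduct.lift (Algebra.ofId L _) ψ' fun l d => Algebra.commutes l (ψ' d)
    let χ := φ'.comp e.symm.toAlgHom
    haveI : Nonempty (Fin n) := ⟨⟨0, by omega⟩⟩
    have hinj : Function.Injective χ := χ.toRingHom.injective
    have hbij : Function.Bijective χ := ⟨hinj, LinearMap.surjective_of_injective (f := χ.toLinearMap) hinj⟩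
    obtain ⟨g, hg⟩ := Groth.Agent.CSADescent.exists_conj (AlgEquiv.ofBijective χ hbij)
    have hψ' : ∀ d, ψ' d = (g : Matrix (Fin n) (Fin n) L) * ψ d * ((g⁻¹ : GL (Fin n) L) : Matrix _ _ L) := by
      intro d
      have h := hg (ψ d)
      rw [← h]
      simp [χ, φ', ψ]
    let Φ : Matrix (Fin n) (Fin n) L →+* Matrix (Fin n) (Fin n) (MvPolynomial (Fin (n * n)) L) :=
      MvPolynomial.C.mapMatrix
    have hval : MvPolynomial.map (σ : L →+* L) P =
        (∑ j, (MvPolynomial.X j : MvPolynomial (Fin (n * n)) L) • Φ (ψ' (bD j))).det := by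
      simp only [P]
      rw [RingHom.map_det]
      congr 1
      ext a b : 1
      simp [Φ, ψ', Matrix.sum_apply, map_sum, MvPolynomial.map_X, MvPolynomial.map_C]
    rw [hval]
    have hsm : ∀ (c : MvPolynomial (Fin (n * n)) L) (A B C' : Matrix (Fin n) (Fin n) (MvPolynomial (Fin (n * n)) L)),
        c • (A * B * C') = A * (c • B) * C' := fun c A B C' => by rw [mul_smul_comm, smul_mul_assoc]
    simp only [hψ', map_mul, hsm, ← Finset.mul_sum, ← Finset.sum_mul, Matrix.det_mul]
    rw [mul_right_comm, ← Matrix.det_mul, ← map_mul, Units.mul_inv, map_one, Matrix.det_one, one_mul]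
    rfl
  have hco : P ∈ (MvPolynomial.map (algebraMap K L) : MvPolynomial (Fin (n * n)) K →+* _).range := by
    rw [RingHom.mem_range, ← Set.mem_range, MvPolynomial.mem_range_map_iff_coeffs_subset]
    intro c hc
    obtain ⟨m, -, rfl⟩ := MvPolynomial.mem_coeffs_iff.mp hc
    refine IntermediateField.mem_bot.mp ((InfiniteGalois.mem_bot_iff_fixed (k := K) (P.coeff m)).mpr fun σ => ?_)
    conv_rhs => rw [← hfix σ, MvPolynomial.coeff_map]
    rfl
  obtain ⟨P₀, hP₀⟩ := hco
  have hP₀h : P₀.IsHomogeneous n := by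
    intro m hm
    refine hP (d := m) ?_
    rw [← hP₀, MvPolynomial.coeff_map]
    exact fun h => hm ((map_eq_zero _).mp h)
  obtain ⟨a, ha, ha0⟩ := hK (n * n) n P₀ hP₀h (by omega) (by rw [pow_one]; exact lt_mul_of_one_lt_left (by omega) hn)
  let d : D := ∑ j, a j • bD j
  have hd : d ≠ 0 := fun h => ha (funext fun j =>
    Fintype.linearIndependent_iff.mp bD.linearIndependent a h j)
  have hdet : (ψ d).det = 0 := by
    have h1 : MvPolynomial.eval (fun j => algebraMap K L (a j)) P = 0 := by
      rw [← hP₀, MvPolynomial.eval_map]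
      have := MvPolynomial.eval₂_comp (algebraMap K L) a P₀
      rw [ha0, map_zero] at this
      exact this.symm
    rw [← h1]
    simp only [P]
    rw [RingHom.map_det]
    congr 1
    ext x y
    simp only [RingHom.mapMatrix_apply, Matrix.map_apply, Matrix.sum_apply, Matrix.smul_apply, d]
    refine congrArg Subtype.val ?_
    simp only [smul_eq_mul]
    rw [map_sum, map_sum, Matrix.sum_apply]
    refine Finset.sum_congr rfl fun j _ => ?_
    rw [map_smul, Matrix.smul_apply, map_mul, MvPolynomial.eval_X, MvPolynomial.eval_C]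
    exact Algebra.smul_def _ _
  exact ((Matrix.isUnit_iff_isUnit_det _).mp ((isUnit_iff_ne_zero.mpr hd).map ψ)).ne_zero hdet

end Groth.Agent.C1Lib
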